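import Groth.Agent.Lib.EtColim.Main
import Groth.Agent.Lib.EtStalk.ExtSheaf
import Groth.Agent.Lib.EtStalk.JCont
import Groth.Agent.Lib.RDComp.Post
import Groth.Agent.Lib.ExtDerived.Natural
import Mathlib.CategoryTheory.Abelian.GrothendieckAxioms.Colim

/-!
# Cohomology and higher direct images of torsion sheaves are torsion
-/

set_option autoImplicit false
set_option backward.isDefEq.respectTransparency false
set_option backward.isDefEq.respectTransparency.types false

universe u

open CategoryTheory CategoryTheory.Limits Opposite AlgebraicGeometry Abelian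

namespace Groth.Agent.EtColim

section Torsion

variable {X : Scheme.{u}} (F : EtCoh.Ab X)

/-- Multiplication by `m!` on `F`. -/
noncomputable abbrev mulFact (m : ℕ) : F ⟶ F := (m.factorial : ℤ) • 𝟙 F

lemma ker_le {m k : ℕ} (h : m ≤ k) : kernel.ι (mulFact F m) ≫ mulFact F k = 0 := by
  obtain ⟨c, hc⟩ := Nat.factorial_dvd_factorial h
  rw [show mulFact F k = mulFact F m ≫ ((c : ℤ) • 𝟙 F) by
    simp only [mulFact, hc, Nat.cast_mul, Preadditive.zsmul_comp, Category.id_comp, smul_smul], ← Category.assoc, kernel.condition, zero_comp]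

/-- The torsion filtration. -/
noncomputable def torDiag : ULift.{u + 1} ℕ ⥤ EtCoh.Ab X where
  obj m := kernel (mulFact F m.down)
  map {m k} h := kernel.lift _ (kernel.ι _) (ker_le F (leOfHom h : m ≤ k))
  map_id m := equalizer.hom_ext (by simp)
  map_comp f g := equalizer.hom_ext (by simp)

/-- The cocone of the torsion filtration. -/
noncomputable def torCocone : Cocone (torDiag F) where
  pt := F
  ι := { app := fun m => kernel.ι _
         naturality := fun m k h => by simp [torDiag] }

lemma isIso_desc (hF : EtCoh.IsTorsion F) : IsIso (colimit.desc (torDiag F) (torCocone F)) := by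
  haveI : IsFiltered (ULift.{u + 1} ℕ) := isFiltered_of_directed_le_nonempty _
  let α : torDiag F ⟶ (Functor.const _).obj F := (torCocone F).ι
  haveI : ∀ m, Mono (α.app m) := fun m => inferInstanceAs (Mono (kernel.ι _))
  haveI : Mono α := NatTrans.mono_of_mono_app α
  haveI : Mono (colimit.desc (torDiag F) (torCocone F)) :=
    colim.map_mono' α (colimit.isColimit _) (isColimitConstCocone _ _) _ (fun m => by simp [α])
  haveI : Sheaf.IsLocallySurjective (colimit.desc (torDiag F) (torCocone F)) := by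
    constructor
    intro U s
    rw [EtSite.mem_et_iff]
    intro x
    obtain ⟨V, g, ⟨v, hv⟩, hfin⟩ := hF U s x
    obtain ⟨k, hk, hks⟩ := isOfFinAddOrder_iff_nsmul_eq_zero.1 hfin
    refine ⟨V, g, v, ?_, hv⟩
    show ∃ t, (colimit.desc (torDiag F) (torCocone F)).hom.app (op V) t = F.obj.map g.op s
    let t₀ := F.obj.map g.op s
    have hm : (mulFact F k).hom.app (op V) t₀ = 0 := by
      obtain ⟨c, hc⟩ := Nat.dvd_factorial hk le_rfl
      change ((k.factorial : ℤ) • 𝟙 _ : F.obj.obj (op V) ⟶ _) t₀ = 0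
      simp only [AddCommGrpCat.hom_zsmul, AddMonoidHom.smul_apply]
      change (k.factorial : ℤ) • t₀ = 0
      rw [natCast_zsmul, hc, mul_comm, mul_smul, hks, smul_zero]
    let ev := sheafToPresheaf X.smallEtaleTopology AddCommGrpCat.{u + 1} ⋙ (evaluation _ _).obj (op V)
    haveI : ev.Additive := { }
    have hex : (ShortComplex.mk _ _ (kernel.condition (mulFact F k))).Exact :=
      ShortComplex.exact_of_f_is_kernel _ (kernelIsKernel _)
    have hex' := (hex.map_of_mono_of_preservesKernel ev inferInstance inferInstance)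
    rw [ShortComplex.ab_exact_iff] at hex'
    obtain ⟨r, hr⟩ := hex' t₀ hm
    refine ⟨(colimit.ι (torDiag F) ⟨k⟩).hom.app (op V) r, ?_⟩
    have := ConcreteCategory.congr_hom (congrArg (fun φ => φ.hom.app (op V))
      (colimit.ι_desc (torCocone F) (⟨k⟩ : ULift.{u + 1} ℕ))) r
    exact this.trans hr
  haveI : Epi (colimit.desc (torDiag F) (torCocone F)) :=
    (Sheaf.isLocallySurjective_iff_epi' _ _).1 inferInstance
  exact isIso_of_mono_of_epi _

variable [CompactSpace X] [QuasiSeparatedSpace X]

/-- Cohomology of torsion sheaves on qcqs schemes is torsion. -/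
theorem isAddTorsion_H (hF : EtCoh.IsTorsion F) (n : ℕ) : IsAddTorsion (EtCoh.H X F n) := by
  haveI : IsFiltered (ULift.{u + 1} ℕ) := isFiltered_of_directed_le_nonempty _
  haveI := isIso_desc F hF
  intro x
  let d := colimit.desc (torDiag F) (torCocone F)
  obtain ⟨⟨k⟩, y, hy⟩ := (surj_inj X n (torDiag F)).1 (x.comp (Ext.mk₀ (inv d)) (add_zero n))
  have hx : x = y.comp (Ext.mk₀ (kernel.ι (mulFact F k))) (add_zero n) := by
    have := congrArg (fun z => Ext.comp z (Ext.mk₀ d) (add_zero n)) hy
    simp only [ExtColim.comp_mk₀, d, colimit.ι_desc, IsIso.inv_hom_id] at this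
    exact (this.trans (Ext.comp_mk₀_id _)).symm
  refine isOfFinAddOrder_iff_nsmul_eq_zero.2 ⟨k.factorial, k.factorial_pos, ?_⟩
  have hz : k.factorial • kernel.ι (mulFact F k) = 0 := by
    rw [← natCast_zsmul, ← kernel.condition (mulFact F k)]
    simp [mulFact]
  rw [hx]
  change k.factorial • y.precomp F (add_zero n) (Ext.mk₀ (kernel.ι (mulFact F k))) = 0
  rw [← map_nsmul, show k.factorial • Ext.mk₀ (kernel.ι (mulFact F k)) = 0 from
    ((Ext.addEquiv₀ (X := kernel (mulFact F k)) (Y := F)).symm.toAddMonoidHom.map_nsmul _ _).symm.trans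
      ((congrArg Ext.mk₀ hz).trans (Ext.mk₀_zero _ _))]
  exact map_zero _

end Torsion

section Restrict

variable {U X : Scheme.{u}} (j : U ⟶ X) [Etale j]

lemma isTorsion_of_iso {F G : EtCoh.Ab X} (e : F ≅ G) (h : EtCoh.IsTorsion F) : EtCoh.IsTorsion G := by
  intro V s x
  obtain ⟨V', g, hg, hfin⟩ := h V (e.inv.hom.app (op V) s) x
  refine ⟨V', g, hg, ?_⟩
  have h1 : e.hom.hom.app (op V') (F.obj.map g.op (e.inv.hom.app (op V) s)) = G.obj.map g.op s := by
    rw [NatTrans.naturality_apply e.hom.hom]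
    exact congrArg (G.obj.map g.op) (ConcreteCategory.congr_hom (congrArg (fun φ => φ.hom.app (op V)) e.inv_hom_id) s)
  rw [← h1]
  exact AddMonoidHom.isOfFinAddOrder _ hfin

lemma isTorsion_pull {F : EtCoh.Ab X} (h : EtCoh.IsTorsion F) : EtCoh.IsTorsion ((EtCoh.pull j).obj F) := by
  refine isTorsion_of_iso ((EtStalk.restrPullIso j).app F) fun V s x => ?_
  obtain ⟨W, g, ⟨w, hw⟩, hfin⟩ := h ((EtShriek.compEtale j).obj V) s x
  haveI : AlgebraicGeometry.Etale ((g.left ≫ V.hom) ≫ j) := by
    rw [Category.assoc, show g.left ≫ V.hom ≫ j = W.hom from MorphismProperty.Over.w g]; exact W.prop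
  haveI := Etale.of_comp (g.left ≫ V.hom) j
  let V' : U.Etale := MorphismProperty.Over.mk ⊤ (g.left ≫ V.hom) inferInstance
  let g' : V' ⟶ V := MorphismProperty.Over.homMk g.left rfl
  let c : (EtShriek.compEtale j).obj V' ⟶ W := MorphismProperty.Over.homMk (𝟙 _)
    ((Category.id_comp _).trans ((MorphismProperty.Over.w g).symm.trans (Category.assoc _ _ _).symm))
  refine ⟨V', g', ⟨w, hw⟩, ?_⟩
  have hc : (EtShriek.compEtale j).map g' = c ≫ g := MorphismProperty.Over.Hom.ext (Category.id_comp _).symm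
  change IsOfFinAddOrder (F.obj.map ((EtShriek.compEtale j).map g').op s)
  rw [hc, op_comp, Functor.map_comp_apply]
  exact AddMonoidHom.isOfFinAddOrder _ hfin

end Restrict

section Direct

variable {X Y : Scheme.{u}} (f : X ⟶ Y)

/-- Direct image with values in presheaves. -/
noncomputable abbrev pushPsh : EtCoh.Ab X ⥤ (Y.Etaleᵒᵖ ⥤ AddCommGrpCat.{u + 1}) :=
  sheafToPresheaf X.smallEtaleTopology AddCommGrpCat.{u + 1} ⋙
    (Functor.whiskeringLeft Y.Etaleᵒᵖ X.Etaleᵒᵖ AddCommGrpCat.{u + 1}).obj (EtCoh.bc f).op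

/-- `X` is final in its étale site. -/
noncomputable def isTerminalTop' (X : Scheme.{u}) : IsTerminal (EtCoh.top X) :=
  IsTerminal.ofUniqueHom (fun U => MorphismProperty.Over.homMk U.hom (Category.comp_id _))
    fun U m => MorphismProperty.Over.Hom.ext ((Category.comp_id _).symm.trans (MorphismProperty.Over.w m))

/-- Maps out of the extension by zero of `ℤ` are sections over `W`. -/
noncomputable def zExtSectEquiv (W : X.Etale) [Etale W.hom] (F : EtCoh.Ab X) :
    (EtStalk.zExt W.hom ⟶ F) ≃+ F.obj.obj (op ((EtShriek.compEtale W.hom).obj (EtCoh.top W.left))) :=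
  ((EtShriek.extZeroAdj W.hom).homAddEquiv (EtCoh.const W.left ℤ) F).trans
    (((constantSheafAdj W.left.smallEtaleTopology AddCommGrpCat.{u + 1} (isTerminalTop' W.left)).homAddEquiv _ _).trans
      (AddCommGrpCat.uliftZMultiplesAddEquiv _))

lemma zExtSectEquiv_comp (W : X.Etale) [Etale W.hom] {F G : EtCoh.Ab X} (x : EtStalk.zExt W.hom ⟶ F)
    (φ : F ⟶ G) : zExtSectEquiv W G (x ≫ φ) = φ.hom.app _ (zExtSectEquiv W F x) := by
  simp only [zExtSectEquiv, AddEquiv.trans_apply, Adjunction.homAddEquiv_apply]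
  erw [Adjunction.homEquiv_naturality_right, Adjunction.homEquiv_naturality_right]
  rfl

/-- Maps out of the extension by zero of `ℤ` are sections. -/
noncomputable def zExtSectIso (W : X.Etale) [Etale W.hom] :
    preadditiveCoyoneda.obj (op (EtStalk.zExt W.hom)) ≅
      sheafToPresheaf X.smallEtaleTopology AddCommGrpCat.{u + 1} ⋙
        (evaluation _ AddCommGrpCat.{u + 1}).obj (op W) :=
  NatIso.ofComponents
    (fun F => (zExtSectEquiv W F).toAddCommGrpIso ≪≫
      F.obj.mapIso (MorphismProperty.Over.isoMk (Iso.refl _)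
        (by exact (Category.id_comp _).trans (Category.id_comp W.hom).symm) :
          W ≅ (EtShriek.compEtale W.hom).obj (EtCoh.top W.left)).op)
    (fun {F G} φ => by
      ext x
      simp only [ConcreteCategory.comp_apply, Iso.trans_hom, Functor.mapIso_hom]
      refine Eq.trans ?_ (ConcreteCategory.congr_hom (φ.hom.naturality _) _).symm
      refine congrArg _ ?_
      exact zExtSectEquiv_comp W x φ)

variable [QuasiCompact f] [QuasiSeparated f]

theorem isAddTorsion_rpushPsh {F : EtCoh.Ab X} (hF : EtCoh.IsTorsion F) (n : ℕ) (V : Y.Etale)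
    [IsAffine V.left] : IsAddTorsion (((((pushPsh f).rightDerived n).obj F).obj (op V)) : Type (u + 1)) := by
  let W := (EtCoh.bc f).obj V
  haveI : AlgebraicGeometry.Etale W.hom := W.prop
  haveI : CompactSpace ((𝟭 Scheme).obj V.left) := inferInstanceAs (CompactSpace V.left)
  haveI : QuasiSeparatedSpace ((𝟭 Scheme).obj V.left) := inferInstanceAs (QuasiSeparatedSpace V.left)
  haveI : QuasiCompact (pullback.fst V.hom f) := inferInstance
  haveI : QuasiSeparated (pullback.fst V.hom f) := inferInstance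
  haveI : CompactSpace W.left :=
    QuasiCompact.compactSpace_of_compactSpace (pullback.fst V.hom f : W.left ⟶ V.left)
  haveI : QuasiSeparatedSpace W.left :=
    quasiSeparatedSpace_of_quasiSeparated (pullback.fst V.hom f : W.left ⟶ V.left)
  haveI : CompactSpace ((𝟭 Scheme).obj W.left) := inferInstanceAs (CompactSpace W.left)
  haveI : QuasiSeparatedSpace ((𝟭 Scheme).obj W.left) := inferInstanceAs (QuasiSeparatedSpace W.left)
  haveI : ((evaluation Y.Etaleᵒᵖ AddCommGrpCat.{u + 1}).obj (op V)).Additive := { }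
  haveI : (pushPsh f).Additive := { }
  let e := (RDComp.rightDerivedPostIso (pushPsh f) ((evaluation Y.Etaleᵒᵖ AddCommGrpCat.{u + 1}).obj (op V)) n).symm ≪≫
    (ExtDerived.rightDerivedMapIso n (zExtSectIso W)).symm ≪≫
      ExtDerived.rightDerivedCoyonedaNatIso (EtStalk.zExt W.hom) n
  let e' := (e.app F).addCommGroupIsoToAddEquiv.trans (EtStalk.extCohEquiv W.hom F n)
  intro x
  have h := isAddTorsion_H _ (isTorsion_pull W.hom hF) n (e' x)
  have := AddMonoidHom.isOfFinAddOrder e'.symm.toAddMonoidHom h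
  simpa using this

theorem isTorsion_Rpush {F : EtCoh.Ab X} (hF : EtCoh.IsTorsion F) (n : ℕ) :
    EtCoh.IsTorsion ((EtCoh.Rpush f n).obj F) := by
  let L := presheafToSheaf Y.smallEtaleTopology AddCommGrpCat.{u + 1}
  haveI : L.Additive := presheafToSheaf_additive
  haveI : (pushPsh f).Additive := { }
  let e : pushPsh f ⋙ L ≅ EtCoh.push f :=
    Functor.isoWhiskerLeft (EtCoh.push f)
      (asIso (sheafificationAdjunction Y.smallEtaleTopology AddCommGrpCat.{u + 1}).counit) ≪≫ (EtCoh.push f).rightUnitor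
  let P := ((pushPsh f).rightDerived n).obj F
  refine isTorsion_of_iso (F := L.obj P)
    (((RDComp.rightDerivedPostIso (pushPsh f) L n).symm ≪≫ ExtDerived.rightDerivedMapIso n e).app F) fun U s x => ?_
  have hcov := Presheaf.imageSieve_mem Y.smallEtaleTopology (toSheafify Y.smallEtaleTopology P) (U := op U) s
  rw [EtSite.mem_et_iff] at hcov
  obtain ⟨V, g, v, ⟨p, hp⟩, hv⟩ := hcov x
  obtain ⟨A, hA, hvA, -⟩ := exists_isAffineOpen_mem_and_subset (X := V.left) (x := v) (U := ⊤) trivial
  haveI : IsAffine (EtSite.sub V A).left := hA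
  refine ⟨EtSite.sub V A, EtSite.subHom V A ≫ g, ⟨⟨v, hvA⟩, hv⟩, ?_⟩
  rw [op_comp, Functor.map_comp_apply]
  have h1 : (L.obj P).obj.map (EtSite.subHom V A).op ((L.obj P).obj.map g.op s) =
      (toSheafify Y.smallEtaleTopology P).app (op (EtSite.sub V A)) (P.map (EtSite.subHom V A).op p) := by
    rw [NatTrans.naturality_apply]
    exact congrArg _ hp.symm
  rw [h1]
  exact AddMonoidHom.isOfFinAddOrder _
    (isAddTorsion_rpushPsh f hF n (EtSite.sub V A) _)

end Direct

end Groth.Agent.EtColim
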