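import Groth.Agent.Lib.EtColim.Main
import Groth.Agent.Lib.EtColim.Torsion
import Mathlib.CategoryTheory.Limits.ConcreteCategory.Filtered

/-!
# Sections over quasi-compact quasi-separated étale schemes commute with filtered colimits
-/

universe u

set_option maxHeartbeats 400000

open CategoryTheory CategoryTheory.Limits AlgebraicGeometry Opposite

namespace Groth.Agent.EtColim

variable {X : Scheme.{u}} (W : X.Etale)

/-- Sections over an étale scheme. -/
noncomputable abbrev secFun : EtCoh.Ab X ⥤ AddCommGrpCat.{u + 1} :=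
  sheafToPresheaf X.smallEtaleTopology AddCommGrpCat.{u + 1} ⋙
    (evaluation X.Etaleᵒᵖ AddCommGrpCat.{u + 1}).obj (op W)

/-- `Hom` is `Ext⁰`, naturally. -/
noncomputable def coyonedaExtIso {C : Type*} [Category.{u + 1} C] [Abelian C] [HasExt.{u + 1} C] (M : C) :
    preadditiveCoyoneda.obj (op M) ≅ Abelian.extFunctorObj.{u + 1} M 0 :=
  NatIso.ofComponents (fun G => (Abelian.Ext.addEquiv₀ (X := M) (Y := G)).symm.toAddCommGrpIso)
    (fun {G G'} a => AddCommGrpCat.ext fun x => by
      have key : ∀ {A B : C} (z : A ⟶ B),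
          (Abelian.Ext.addEquiv₀ (X := A) (Y := B)).symm z = Abelian.Ext.mk₀ z := fun z => by
        apply (Abelian.Ext.addEquiv₀ (C := C)).injective
        rw [AddEquiv.apply_symm_apply]
        exact (Abelian.Ext.addEquiv₀.symm.injective (by simp)).symm
      show (Abelian.Ext.addEquiv₀ (X := M) (Y := G')).symm (x ≫ a) =
        ((Abelian.Ext.addEquiv₀ (X := M) (Y := G)).symm x).comp (Abelian.Ext.mk₀ a) (add_zero 0)
      rw [key, key, Abelian.Ext.mk₀_comp_mk₀])

/-- Maps out of `ℤ` are cohomology in degree zero. -/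
noncomputable def coyonedaHFIso (Y : Scheme.{u}) :
    preadditiveCoyoneda.obj (op (EtCoh.const Y ℤ)) ≅ EtCoh.HF Y 0 :=
  coyonedaExtIso (EtCoh.const Y ℤ) ≪≫
    NatIso.ofComponents (fun F => Iso.refl _) (fun φ => by ext x; rfl)

/-- Maps out of an extension by zero are maps to the inverse image. -/
noncomputable def coyonedaPullIso {U : Scheme.{u}} (j : U ⟶ X) [AlgebraicGeometry.Etale j] :
    preadditiveCoyoneda.obj (op (EtStalk.zExt j)) ≅
      EtCoh.pull j ⋙ preadditiveCoyoneda.obj (op (EtCoh.const U ℤ)) :=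
  haveI : (EtShriek.extZero j).Additive := (EtShriek.extZeroAdj j).left_adjoint_additive
  NatIso.ofComponents
    (fun G => AddEquiv.toAddCommGrpIso
      (X := (preadditiveCoyoneda.obj (op (EtStalk.zExt j))).obj G)
      (Y := (EtCoh.pull j ⋙ preadditiveCoyoneda.obj (op (EtCoh.const U ℤ))).obj G)
      ((EtStalk.shriekPullAdj j).homAddEquiv (EtCoh.const U ℤ) G))
    (fun {G G'} a => AddCommGrpCat.ext fun x =>
      (EtStalk.shriekPullAdj j).homEquiv_naturality_right x a)

theorem preservesColimitsOfShape_secFun [hW : CompactSpace W.left] [hW' : QuasiSeparatedSpace W.left]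
    (J : Type u) [SmallCategory J] [IsFiltered J] :
    PreservesColimitsOfShape J (secFun W) := by
  haveI : AlgebraicGeometry.Etale W.hom := W.prop
  haveI : CompactSpace ↥((𝟭 Scheme).obj W.left) := hW
  haveI : QuasiSeparatedSpace ↥((𝟭 Scheme).obj W.left) := hW'
  haveI := preservesColimitsOfShape_HF_small ((𝟭 Scheme).obj W.left) 0 J
  haveI : (EtCoh.pull W.hom).IsLeftAdjoint := (EtCoh.pullPushAdj W.hom).isLeftAdjoint
  exact preservesColimitsOfShape_of_natIso
    ((Functor.isoWhiskerLeft (EtCoh.pull W.hom) (coyonedaHFIso _)).symm ≪≫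
      (coyonedaPullIso W.hom).symm ≪≫ zExtSectIso W)

variable [CompactSpace W.left] [QuasiSeparatedSpace W.left] {J : Type u} [SmallCategory J] [IsFiltered J]
  {D : J ⥤ EtCoh.Ab X} {c : Cocone D}

theorem exists_sec_rep (hc : IsColimit c) (s : c.pt.obj.obj (op W)) :
    ∃ (j : J) (t : (D.obj j).obj.obj (op W)), (c.ι.app j).hom.app (op W) t = s := by
  haveI := preservesColimitsOfShape_secFun W J
  exact Concrete.isColimit_exists_rep _ (isColimitOfPreserves (secFun W) hc) s

theorem exists_sec_eq (hc : IsColimit c) (j : J) (t t' : (D.obj j).obj.obj (op W))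
    (h : (c.ι.app j).hom.app (op W) t = (c.ι.app j).hom.app (op W) t') :
    ∃ (k : J) (a : j ⟶ k), (D.map a).hom.app (op W) t = (D.map a).hom.app (op W) t' := by
  haveI := preservesColimitsOfShape_secFun W J
  obtain ⟨k, f, g, hfg⟩ :=
    Concrete.isColimit_exists_of_rep_eq (D ⋙ secFun W) (isColimitOfPreserves (secFun W) hc) t t' h
  refine ⟨IsFiltered.coeq f g, f ≫ IsFiltered.coeqHom f g, ?_⟩
  have hfg' : (D.map f).hom.app (op W) t = (D.map g).hom.app (op W) t' := hfg
  have h2 : D.map (f ≫ IsFiltered.coeqHom f g) = D.map (g ≫ IsFiltered.coeqHom f g) :=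
    congrArg D.map (IsFiltered.coeq_condition f g)
  show (D.map (f ≫ IsFiltered.coeqHom f g)).hom.app (op W) t =
    (D.map (f ≫ IsFiltered.coeqHom f g)).hom.app (op W) t'
  conv_rhs => rw [h2]
  rw [D.map_comp, D.map_comp]
  exact congrArg ((D.map (IsFiltered.coeqHom f g)).hom.app (op W)) hfg'

end Groth.Agent.EtColim
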