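import Groth.Prelude.Def_EtBase
import Groth.Agent.Lib.EtSite.Sheaf
import Groth.Agent.Lib.ExtColim.Coherent
import Groth.Agent.Lib.ExtColim.Support
import Groth.Agent.Lib.ExtColim.Transfer
import Groth.Agent.Lib.ToposFin.Main
import Mathlib.CategoryTheory.Category.ULift
import Mathlib.CategoryTheory.Sites.DenseSubsite.SheafEquiv
import Mathlib.CategoryTheory.Sites.DenseSubsite.InducedTopology
import Mathlib.CategoryTheory.ObjectProperty.FullSubcategory
import Mathlib.CategoryTheory.Limits.Constructions.LimitsOfProductsAndEqualizers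
import Mathlib.AlgebraicGeometry.Morphisms.QuasiSeparated

/-!
# The small site of quasi-compact quasi-separated étale schemes
-/

set_option autoImplicit false
set_option backward.isDefEq.respectTransparency false

universe u

open CategoryTheory CategoryTheory.Limits Opposite AlgebraicGeometry ToposFin

namespace Groth.Agent.EtColim

open Groth.Agent.Topos

section Criterion

universe w

variable {C : Type w} [SmallCategory C] {J : GrothendieckTopology C}

/-- A site with finite limits all of whose objects are quasi-compact gives a coherent topos. -/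
theorem isAlgebraic_of_site [HasPullbacks C] [HasTerminal C] (hC : ∀ U : C, IsQCSite J U) :
    IsAlgebraic J ∧ IsCoherent (⊤_ (Sh J)) := by
  have hy : IsTerminal (yoneda.obj (⊤_ C)) := terminalIsTerminal.isTerminalObj yoneda _
  have he : IsTerminal (eps J (⊤_ C)) := hy.isTerminalObj (presheafToSheaf J (Type w)) _
  let e : eps J (⊤_ C) ≅ ⊤_ (Sh J) := he.uniqueUpToIso terminalIsTerminal
  have hT : IsCoherent (⊤_ (Sh J)) := coherent_of_retract e.inv e.hom e.inv_hom_id (isCoherent_eps J hC _)
  have hpb : ∀ {K L M : Sh J} (f : K ⟶ M) (g : L ⟶ M), IsCoherent K → IsCoherent L → IsCoherent M →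
      IsCoherent (pullback f g) := fun f g hK hL hM =>
    isCoherent_pullback_over_eps J hC f g hK hL hM (terminal.from _ ≫ e.inv)
  refine ⟨⟨{K | IsCoherent K}, fun K hK => hK.1, fun Z => ?_,
    fun K L M f g hK hL hM => ⟨_, _, _, hpb f g hK hL hM, IsPullback.of_hasPullback f g⟩, fun K L a b hK hL => ?_⟩, hT⟩
  · exact ⟨Σ U : C, Z.obj.obj (op U), fun p => eps J p.1, fun p => epsDesc J p.2,
      fun p => isCoherent_eps J hC p.1, fun W x y h => jepi_cancel (jepi_epsDesc J Z) x y h⟩
  · let pa : K ⟶ pullback (terminal.from K) (terminal.from L) := pullback.lift (𝟙 K) a (Subsingleton.elim _ _)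
    let pb : K ⟶ pullback (terminal.from K) (terminal.from L) := pullback.lift (𝟙 K) b (Subsingleton.elim _ _)
    have h12 : pullback.fst pa pb = pullback.snd pa pb := by
      simpa [pa, pb] using congrArg (fun m => m ≫ pullback.fst _ _) (pullback.condition (f := pa) (g := pb))
    have w : pullback.fst pa pb ≫ a = pullback.fst pa pb ≫ b := by
      conv_rhs => rw [h12]
      simpa [pa, pb] using congrArg (fun m => m ≫ pullback.snd _ _) (pullback.condition (f := pa) (g := pb))
    have key : ∀ s : Fork a b, s.ι ≫ pa = s.ι ≫ pb := fun s =>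
      pullback.hom_ext (by simp [pa, pb]) (by simpa [pa, pb] using s.condition)
    refine ⟨_, pullback.fst pa pb, w, hpb pa pb hK hK (hpb _ _ hK hL hT), ⟨Fork.IsLimit.mk _
      (fun s => pullback.lift s.ι s.ι (key s)) (fun s => pullback.lift_fst _ _ _) fun s m hm => ?_⟩⟩
    refine pullback.hom_ext (hm.trans (pullback.lift_fst _ _ _).symm) ?_
    rw [pullback.lift_snd, ← h12]
    exact hm

end Criterion

variable (X : Scheme.{u})

/-- Quasi-compact quasi-separated étale schemes over `X`. -/
def qcqs : ObjectProperty X.Etale := fun U => CompactSpace U.left ∧ QuasiSeparatedSpace U.left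

/-- The small category of qcqs étale schemes over `X`. -/
abbrev QCSite : Type (u + 1) := ULiftHom.{u + 1} (qcqs X).FullSubcategory

/-- The inclusion. -/
abbrev incl : QCSite X ⥤ X.Etale := ULiftHom.down ⋙ (qcqs X).ι

instance : (ULiftHom.down : QCSite X ⥤ (qcqs X).FullSubcategory).IsEquivalence :=
  ULiftHom.equiv.isEquivalence_inverse

variable {X}

lemma qcqs_isPullback {P U V W : X.Etale} {p : P ⟶ U} {q : P ⟶ V} {f : U ⟶ W} {g : V ⟶ W}
    (h : IsPullback p q f g) (hU : qcqs X U) (hV : qcqs X V) (hW : qcqs X W) : qcqs X P := by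
  have sq : IsPullback p.left q.left f.left g.left := h.map (Scheme.Etale.forget X ⋙ Over.forget X)
  obtain ⟨_, _⟩ := hU; obtain ⟨_, _⟩ := hV; obtain ⟨_, _⟩ := hW
  haveI : QuasiCompact g.left := inferInstance
  haveI : QuasiSeparated g.left := inferInstance
  haveI : QuasiCompact p.left := MorphismProperty.of_isPullback (P := @QuasiCompact) sq.flip inferInstance
  haveI : QuasiSeparated p.left := MorphismProperty.of_isPullback (P := @QuasiSeparated) sq.flip inferInstance
  exact ⟨QuasiCompact.compactSpace_of_compactSpace p.left, quasiSeparatedSpace_of_quasiSeparated p.left⟩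

lemma qcqs_of_isAffine (U : X.Etale) [IsAffine U.left] : qcqs X U := ⟨inferInstance, inferInstance⟩

variable (X)

instance isCoverDense_incl : (incl X).IsCoverDense X.smallEtaleTopology where
  is_cover U := by
    refine (EtSite.mem_et_iff U _).2 fun x => ?_
    obtain ⟨W, hW, hx, -⟩ := exists_isAffineOpen_mem_and_subset (X := U.left) (x := x) (U := ⊤) trivial
    haveI : IsAffine (W : Scheme.{u}) := hW
    haveI : IsAffine (EtSite.sub U W).left := hW
    have hq : qcqs X (EtSite.sub U W) := qcqs_of_isAffine _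
    refine ⟨EtSite.sub U W, EtSite.subHom U W, ⟨x, hx⟩, ?_, rfl⟩
    exact ⟨⟨ULiftHom.objUp ⟨EtSite.sub U W, hq⟩, 𝟙 _, EtSite.subHom U W, Category.id_comp _⟩⟩

/-- The topology. -/
abbrev qcTop : GrothendieckTopology (QCSite X) := (incl X).inducedTopology X.smallEtaleTopology

instance hasPullbacks_qcSite : HasPullbacks (QCSite X) := by
  refine @hasPullbacks_of_hasLimit_cospan _ _ fun {A B Z f g} => ?_
  have hq := qcqs_isPullback (IsPullback.of_hasPullback ((incl X).map f) ((incl X).map g))
    A.objDown.property B.objDown.property Z.objDown.property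
  let P : QCSite X := ULiftHom.objUp ⟨pullback ((incl X).map f) ((incl X).map g), hq⟩
  exact (IsPullback.of_map_of_faithful (incl X)
    (f := (incl X).preimage (pullback.fst ((incl X).map f) ((incl X).map g)) (X := P))
    (g := (incl X).preimage (pullback.snd ((incl X).map f) ((incl X).map g)) (X := P)) (h := f) (i := g)
    (by rw [Functor.map_preimage, Functor.map_preimage]
        exact IsPullback.of_hasPullback ((incl X).map f) ((incl X).map g))).hasPullback

variable [CompactSpace X] [QuasiSeparatedSpace X]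

/-- The final object. -/
noncomputable abbrev qcTopObj : QCSite X := ULiftHom.objUp ⟨EtCoh.top X, ‹CompactSpace X›, ‹QuasiSeparatedSpace X›⟩

/-- `X` is final in its étale site. -/
noncomputable def isTerminalTop : IsTerminal (EtCoh.top X) :=
  IsTerminal.ofUniqueHom (fun U => MorphismProperty.Over.homMk U.hom (Category.comp_id _))
    fun U m => MorphismProperty.Over.Hom.ext ((Category.comp_id _).symm.trans (MorphismProperty.Over.w m))

/-- It is final. -/
noncomputable def isTerminalQcTopObj : IsTerminal (qcTopObj X) :=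
  IsTerminal.isTerminalOfObj (incl X) _ (isTerminalTop X)

instance : HasTerminal (QCSite X) := (isTerminalQcTopObj X).hasTerminal

omit [CompactSpace X] [QuasiSeparatedSpace X] in
theorem isQCSite (U : QCSite X) : IsQCSite (qcTop X) U := by
  intro S hS
  rw [Functor.mem_inducedTopology_iff_of_isCoverDense, EtSite.mem_et_iff] at hS
  obtain ⟨hcU, -⟩ := U.objDown.property
  have hS' : ∀ x : ((incl X).obj U).left, ∃ (V : QCSite X) (g : V ⟶ U), S g ∧
      x ∈ Set.range ((incl X).map g).left := by
    intro x
    obtain ⟨Y, f, y, ⟨V, g, h, hg, rfl⟩, hy⟩ := hS x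
    exact ⟨V, g, hg, h.left y, hy⟩
  choose V g hg hx using hS'
  have hopen : ∀ x, IsOpen (Set.range ((incl X).map (g x)).left) := fun x => by
    haveI : AlgebraicGeometry.Etale (((incl X).map (g x)).left ≫ ((incl X).obj U).hom) := by
      rw [MorphismProperty.Over.w]; exact ((incl X).obj (V x)).prop
    haveI : AlgebraicGeometry.Etale ((incl X).obj U).hom := ((incl X).obj U).prop
    haveI := Etale.of_comp ((incl X).map (g x)).left ((incl X).obj U).hom
    exact ((incl X).map (g x)).left.isOpenMap.isOpen_range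
  haveI : CompactSpace ((incl X).obj U).left := hcU
  obtain ⟨t, ht⟩ := isCompact_univ.elim_finite_subcover (fun x => Set.range ((incl X).map (g x)).left) hopen
    (fun x _ => Set.mem_iUnion.2 ⟨x, hx x⟩)
  refine ⟨t.card, fun k => V (t.equivFin.symm k), fun k => g (t.equivFin.symm k), fun k => hg _, ?_⟩
  rw [Functor.mem_inducedTopology_iff_of_isCoverDense, EtSite.mem_et_iff]
  intro x
  obtain ⟨z, hz, y, hy⟩ := Set.mem_iUnion₂.1 (ht (Set.mem_univ x))
  obtain ⟨k, rfl⟩ : ∃ k, (t.equivFin.symm k).1 = z := ⟨t.equivFin ⟨z, hz⟩, by simp⟩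
  refine ⟨_, (incl X).map (g (t.equivFin.symm k)), y, Sieve.image_mem_functorPushforward _ _ ?_, hy⟩
  exact Sieve.ofArrows_mk _ _ k

theorem isAlgebraic : IsAlgebraic (qcTop X) ∧ IsCoherent (⊤_ (Sh (qcTop X))) :=
  isAlgebraic_of_site (isQCSite X)

/-- Restriction to qcqs objects. -/
noncomputable abbrev res : EtCoh.Ab X ⥤ Sheaf (qcTop X) AddCommGrpCat.{u + 1} :=
  (incl X).sheafPushforwardContinuous AddCommGrpCat.{u + 1} (qcTop X) X.smallEtaleTopology

/-- Restriction preserves constant sheaves. -/
theorem nonempty_res_const (M : AddCommGrpCat.{u + 1}) :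
    Nonempty ((res X).obj ((constantSheaf X.smallEtaleTopology AddCommGrpCat.{u + 1}).obj M) ≅
      (constantSheaf (qcTop X) AddCommGrpCat.{u + 1}).obj M) := by
  have hT : IsTerminal ((incl X).obj (qcTopObj X)) := isTerminalTop X
  let Φ := (res X).asEquivalence
  let a1 := (constantSheafAdj X.smallEtaleTopology AddCommGrpCat.{u + 1} hT).comp Φ.toAdjunction
  let a2 := constantSheafAdj (qcTop X) AddCommGrpCat.{u + 1} (isTerminalQcTopObj X)
  let a3 := a1.ofNatIsoRight (Functor.isoWhiskerRight Φ.counitIso
    ((sheafSections (qcTop X) AddCommGrpCat.{u + 1}).obj (op (qcTopObj X))) ≪≫ Functor.leftUnitor _)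
  exact ⟨(a3.leftAdjointUniq a2).app M⟩

/-- Étale cohomology commutes with filtered colimits. -/
theorem surj_inj {Λ : Type (u + 1)} [SmallCategory Λ] [IsFiltered Λ] (q : ℕ) (D : Λ ⥤ EtCoh.Ab X) :
    let M := (constantSheaf X.smallEtaleTopology AddCommGrpCat.{u + 1}).obj (AddCommGrpCat.of (ULift.{u + 1} ℤ))
    ExtColim.Surj M q D ∧ ExtColim.Inj M q D := by
  intro M
  obtain ⟨hE, hT⟩ := isAlgebraic X
  obtain ⟨e⟩ := nonempty_res_const X (AddCommGrpCat.of (ULift.{u + 1} ℤ))
  obtain ⟨e'⟩ := CohColim.nonempty_freeTerminalIso (J := qcTop X)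
  haveI : (res X).Additive := { }
  exact ExtColim.surj_inj_of_equivalence (res X) M (e ≪≫ e'.symm) q D
    (CohColim.free_surj_inj hE hT q _)

end Groth.Agent.EtColim
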