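import Groth.Agent.Lib.EtColim.Site

/-!
# Étale cohomology and filtered colimits
-/

set_option autoImplicit false

universe u

open CategoryTheory CategoryTheory.Limits Opposite AlgebraicGeometry

namespace Groth.Agent.EtColim

variable (X : Scheme.{u}) [CompactSpace X] [QuasiSeparatedSpace X]

theorem preservesColimitsOfShape_HF (n : ℕ) (Λ : Type (u + 1)) [SmallCategory Λ] [IsFiltered Λ] :
    PreservesColimitsOfShape Λ (EtCoh.HF X n) := by
  haveI : ∀ D : Λ ⥤ EtCoh.Ab X, PreservesColimit D (EtCoh.HF X n) := fun D => by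
    haveI := ExtColim.preservesColimit_extFunctor (surj_inj X n D).1 (surj_inj X n D).2
    exact preservesColimit_of_natIso D
      (F := (Abelian.extFunctor.{u + 1} n).obj (op ((constantSheaf X.smallEtaleTopology AddCommGrpCat.{u + 1}).obj
        (AddCommGrpCat.of (ULift.{u + 1} ℤ)))))
      (NatIso.ofComponents (fun F => Iso.refl _) (fun φ => by ext x; rfl))
  exact ⟨fun {_} => inferInstance⟩

theorem preservesColimitsOfShape_HF_small (n : ℕ) (Λ : Type u) [SmallCategory Λ] [IsFiltered Λ] :
    PreservesColimitsOfShape Λ (EtCoh.HF X n) := by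
  haveI : IsFiltered (AsSmall.{u + 1} Λ) := IsFiltered.of_equivalence AsSmall.equiv
  haveI := preservesColimitsOfShape_HF X n (AsSmall.{u + 1} Λ)
  exact preservesColimitsOfShape_of_equiv (AsSmall.equiv (C := Λ)).symm (EtCoh.HF X n)

end Groth.Agent.EtColim
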